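import Groth.Agent.Lefpen.H625.ConeR

/-!
# Čech cohomology of the cone in low degrees, with explicit indices
-/

set_option autoImplicit false
set_option linter.unusedSectionVars false
universe u

open MvPolynomial

namespace Groth.Agent.Lefpen.H625.ConeCech

open Groth.Agent.CohqA.LaurentLoc Groth.Agent.CohqA.LaurentCech
open Groth.Agent.Lefpen.H728.LaurReg Groth.Agent.Lefpen.H19.Socle Groth.Agent.Lefpen.H625.ConeR

section dd

variable {ι : Type} {A : Type u} [AddCommGroup A]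

theorem eta1 (σ : Fin 1 → ι) : σ = ![σ 0] := by funext i; fin_cases i; rfl
theorem eta2 (σ : Fin 2 → ι) : σ = ![σ 0, σ 1] := by funext i; fin_cases i <;> rfl
theorem eta3 (σ : Fin 3 → ι) : σ = ![σ 0, σ 1, σ 2] := by funext i; fin_cases i <;> rfl
theorem eta4 (σ : Fin 4 → ι) : σ = ![σ 0, σ 1, σ 2, σ 3] := by funext i; fin_cases i <;> rfl

theorem dd1 (s : (Fin 0 → ι) → A) (i : ι) : dd s ![i] = s ![] := by
  rw [dd_apply, Fin.sum_univ_one]
  have h : (![i] ∘ (0 : Fin 1).succAbove : Fin 0 → ι) = ![] := funext fun x => x.elim0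
  rw [h]
  simp

theorem dd2 (s : (Fin 1 → ι) → A) (i j : ι) : dd s ![i, j] = s ![j] - s ![i] := by
  rw [dd_apply, Fin.sum_univ_two]
  have h0 : (![i, j] ∘ (0 : Fin 2).succAbove : Fin 1 → ι) = ![j] := by funext x; fin_cases x; rfl
  have h1 : (![i, j] ∘ (1 : Fin 2).succAbove : Fin 1 → ι) = ![i] := by funext x; fin_cases x; rfl
  rw [h0, h1]
  simp [sub_eq_add_neg]

theorem dd3 (s : (Fin 2 → ι) → A) (i j k : ι) : dd s ![i, j, k] = s ![j, k] - s ![i, k] + s ![i, j] := by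
  rw [dd_apply, Fin.sum_univ_three]
  have h0 : (![i, j, k] ∘ (0 : Fin 3).succAbove : Fin 2 → ι) = ![j, k] := by funext x; fin_cases x <;> rfl
  have h1 : (![i, j, k] ∘ (1 : Fin 3).succAbove : Fin 2 → ι) = ![i, k] := by funext x; fin_cases x <;> rfl
  have h2 : (![i, j, k] ∘ (2 : Fin 3).succAbove : Fin 2 → ι) = ![i, j] := by funext x; fin_cases x <;> rfl
  rw [h0, h1, h2]
  simp [sub_eq_add_neg]

theorem dd4 (s : (Fin 3 → ι) → A) (i j k q : ι) :
    dd s ![i, j, k, q] = s ![j, k, q] - s ![i, k, q] + s ![i, j, q] - s ![i, j, k] := by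
  rw [dd_apply, Fin.sum_univ_four]
  have h0 : (![i, j, k, q] ∘ (0 : Fin 4).succAbove : Fin 3 → ι) = ![j, k, q] := by funext x; fin_cases x <;> rfl
  have h1 : (![i, j, k, q] ∘ (1 : Fin 4).succAbove : Fin 3 → ι) = ![i, k, q] := by funext x; fin_cases x <;> rfl
  have h2 : (![i, j, k, q] ∘ (2 : Fin 4).succAbove : Fin 3 → ι) = ![i, j, q] := by funext x; fin_cases x <;> rfl
  have h3 : (![i, j, k, q] ∘ (3 : Fin 4).succAbove : Fin 3 → ι) = ![i, j, k] := by funext x; fin_cases x <;> rfl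
  rw [h0, h1, h2, h3]
  simp [sub_eq_add_neg, pow_succ]

variable [DecidableEq ι]

theorem image0 (σ : Fin 0 → ι) : Finset.univ.image σ = ∅ := by simp
theorem image1 (i : ι) : Finset.univ.image ![i] = {i} := by
  ext x; simp [eq_comm]
theorem image2 (i j : ι) : Finset.univ.image ![i, j] = {i, j} := by
  ext x; simp [eq_comm]
theorem image3 (i j k : ι) : Finset.univ.image ![i, j, k] = {i, j, k} := by
  ext x; simp [Fin.exists_fin_succ, eq_comm]

end dd

variable {K : Type u} [Field K] {ι : Type} [DecidableEq ι] [Fintype ι] {Q : Type u} [Field Q]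
  {φ : MvPolynomial ι K →+* Q} (hx : ∀ i, φ (X i) ≠ 0) {d : ℕ} (G : Fin d → MvPolynomial ι K) (a : Fin d → ℕ)
  (ha : ∀ j, 1 ≤ a j) (hht : (d : ℕ∞) ≤ (Ideal.span (Set.range G)).height)
  (hG : ∀ j, (G j).IsHomogeneous (a j)) (hker : ∀ P, φ P = 0 ↔ P ∈ Ideal.span (Set.range G))

include hx ha hht hG hker

/-- `H^0(O(m)) = A_m`. -/
theorem exists_H0 (hd : 1 + d < Fintype.card ι) (m : ℤ) (x : Q) (h : ∀ i, x ∈ RS φ {i} m) : x ∈ RS φ ∅ m := by
  obtain ⟨t, ht, hst⟩ := exists_cob hx G a ha hht hG hker (p := 0) (m := m) (fun _ => x)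
    (fun σ => by rw [eta1 σ, image1]; exact h _)
    (fun σ => by rw [eta2 σ, dd2, sub_self]) (by omega)
  have hne : Nonempty ι := Fintype.card_pos_iff.1 (by omega)
  obtain ⟨i⟩ := hne
  have h1 := hst ![i]
  rw [dd1] at h1
  have h2 := ht ![]
  rw [image0, ← h1] at h2
  exact h2

/-- `H^1(O(m)) = 0`. -/
theorem exists_Z1 (hd : 2 + d < Fintype.card ι) (m : ℤ) (s : ι → ι → Q) (hs : ∀ i j, s i j ∈ RS φ {i, j} m)
    (hcoc : ∀ i j k, s j k - s i k + s i j = 0) :
    ∃ t : ι → Q, (∀ i, t i ∈ RS φ {i} m) ∧ ∀ i j, s i j = t j - t i := by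
  obtain ⟨t, ht, hst⟩ := exists_cob hx G a ha hht hG hker (p := 1) (m := m) (fun σ => s (σ 0) (σ 1))
    (fun σ => by rw [eta2 σ, image2]; exact hs _ _)
    (fun σ => by rw [eta3 σ, dd3]; exact hcoc _ _ _) (by omega)
  refine ⟨fun i => t ![i], fun i => ?_, fun i j => ?_⟩
  · have := ht ![i]
    rwa [image1] at this
  · have := hst ![i, j]
    rwa [dd2] at this

/-- The socle of `H^2`. -/
theorem exists_Soc (hd : 3 + d = Fintype.card ι) (l : Fin d) (m : ℤ) (hm : m ≤ ∑ j, (a j : ℤ) - Fintype.card ι)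
    (s : ι → ι → ι → Q) (hs : ∀ i j k, s i j k ∈ RS φ {i, j, k} (m - a l))
    (hcoc : ∀ i j k q, s j k q - s i k q + s i j q - s i j k = 0)
    (hsoc : ∀ u : ι →₀ ℕ, u.degree = a l → ∃ v : ι → ι → Q, (∀ i j, v i j ∈ RS φ {i, j} m) ∧
      ∀ i j k, φ (monomial u 1) * s i j k = v j k - v i k + v i j) :
    ∃ r : ι → ι → Q, (∀ i j, r i j ∈ RS φ {i, j} (m - a l)) ∧ ∀ i j k, s i j k = r j k - r i k + r i j := by
  obtain ⟨t, ht, hst⟩ := exists_soc hx G a ha hht hG hker (p := 2) (e := m - a l) (z := m) (a l) (by ring)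
    (fun σ => s (σ 0) (σ 1) (σ 2))
    (fun σ => by rw [eta3 σ, image3]; exact hs _ _ _)
    (fun σ => by rw [eta4 σ, dd4]; exact hcoc _ _ _ _) (by omega) hm (fun u hu => by
      obtain ⟨v, hv, hvs⟩ := hsoc u hu
      refine ⟨fun σ => v (σ 0) (σ 1), fun σ => by rw [eta2 σ, image2]; exact hv _ _, fun σ => ?_⟩
      rw [eta3 σ, dd3]
      exact hvs _ _ _)
  refine ⟨fun i j => t ![i, j], fun i j => ?_, fun i j k => ?_⟩
  · have := ht ![i, j]
    rwa [image2] at this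
  · have := hst ![i, j, k]
    rwa [dd3] at this

end Groth.Agent.Lefpen.H625.ConeCech
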