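import Groth.Agent.Lefpen.H625.ConeR
import Groth.Agent.Lefpen.H725.Frame
import Mathlib.Algebra.TrivSqZeroExt.Basic
import Mathlib.LinearAlgebra.Dual.Lemmas
import Mathlib.Algebra.MvPolynomial.PDeriv
import Mathlib.RingTheory.Localization.FractionRing

/-!
# Derivations of the function field of a cone
-/

set_option autoImplicit false
set_option linter.unusedSectionVars false
universe u

open MvPolynomial

namespace Groth.Agent.Lefpen.H625.ConeDer

open Groth.Agent.Lefpen.H728.LaurReg Groth.Agent.Lefpen.H625.ConeR Groth.Agent.Lefpen.H725.Frame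

/-! ### Dual numbers -/

section TSZ

variable {Q : Type u} [Field Q] {R : Type u} [CommRing R]

open TrivSqZeroExt in
/-- The ring homomorphism to the dual numbers defined by a derivation. -/
def mkHom (f : R →+* Q) (δ : R →+ Q) (h : ∀ a b, δ (a * b) = f a * δ b + f b * δ a) :
    R →+* TrivSqZeroExt Q Q where
  toFun a := inl (f a) + inr (δ a)
  map_one' := by
    have h1 := h 1 1
    simp only [mul_one, map_one, one_mul] at h1
    have h2 : δ 1 = 0 := by linear_combination -h1
    ext <;> simp [h2]
  map_mul' a b := by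
    ext
    · simp
    · simp [h a b, mul_comm]
  map_zero' := by ext <;> simp
  map_add' a b := by ext <;> simp

theorem fst_mkHom (f : R →+* Q) (δ : R →+ Q) (h : ∀ a b, δ (a * b) = f a * δ b + f b * δ a) (a : R) :
    (mkHom f δ h a).fst = f a := by simp [mkHom]

theorem snd_mkHom (f : R →+* Q) (δ : R →+ Q) (h : ∀ a b, δ (a * b) = f a * δ b + f b * δ a) (a : R) :
    (mkHom f δ h a).snd = δ a := by simp [mkHom]

/-- A derivation from a homomorphism to the dual numbers. -/
noncomputable def derOf (ψ : Q →+* TrivSqZeroExt Q Q) (h : ∀ x, (ψ x).fst = x) : Derivation ℤ Q Q :=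
  Derivation.mk' (AddMonoidHom.toIntLinearMap
    { toFun := fun x => (ψ x).snd
      map_zero' := by simp
      map_add' := fun x y => by simp }) (fun a b => by
        change (ψ (a * b)).snd = a • (ψ b).snd + b • (ψ a).snd
        rw [map_mul, TrivSqZeroExt.snd_mul, h, h]
        simp [mul_comm])

theorem derOf_apply (ψ : Q →+* TrivSqZeroExt Q Q) (h : ∀ x, (ψ x).fst = x) (x : Q) :
    derOf ψ h x = (ψ x).snd := rfl

end TSZ

variable {K : Type u} [Field K] {ι : Type} [Fintype ι] [DecidableEq ι] {Q : Type u} [Field Q]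
  (φ : MvPolynomial ι K →+* Q)

/-- The coefficientwise map. -/
noncomputable def cd (δ : K →+ Q) : MvPolynomial ι K →+ Q :=
  AddMonoidAlgebra.liftNC δ (fun m => φ (monomial m.toAdd 1))

theorem cd_monomial (δ : K →+ Q) (m : ι →₀ ℕ) (c : K) : cd φ δ (monomial m c) = δ c * φ (monomial m 1) :=
  AddMonoidAlgebra.liftNC_single _ _ _ _

theorem cd_C (δ : K →+ Q) (c : K) : cd φ δ (C c) = δ c := by
  rw [C_apply, cd_monomial]
  have : φ (monomial (0 : ι →₀ ℕ) (1 : K)) = 1 := by
    rw [show (monomial (0 : ι →₀ ℕ) (1 : K)) = 1 from rfl, map_one]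
  rw [this, mul_one]

theorem cd_mul_X (δ : K →+ Q) (P : MvPolynomial ι K) (i : ι) : cd φ δ (P * X i) = cd φ δ P * φ (X i) := by
  induction P using MvPolynomial.induction_on' with
  | monomial m c =>
    rw [X, monomial_mul, mul_one, cd_monomial, cd_monomial, mul_assoc, ← map_mul, monomial_mul, mul_one]
  | add P P' h h' => rw [add_mul, map_add, h, h', map_add, add_mul]

/-- An additive map on polynomials satisfying the Leibniz rule. -/
theorem leibniz_formula (E : MvPolynomial ι K →+ Q) (hE : ∀ P P', E (P * P') = φ P * E P' + φ P' * E P)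
    (P : MvPolynomial ι K) :
    E P = cd φ (E.comp (C : K →+* MvPolynomial ι K).toAddMonoidHom) P + ∑ i, φ (pderiv i P) * E (X i) := by
  induction P using MvPolynomial.induction_on with
  | C c =>
    rw [cd_C]
    simp
  | add P P' h h' =>
    rw [map_add, h, h', map_add, add_add_add_comm, ← Finset.sum_add_distrib]
    congr 1
    exact Finset.sum_congr rfl fun i _ => by rw [map_add, map_add, add_mul]
  | mul_X P i h =>
    rw [hE, h, cd_mul_X]
    have h1 : ∀ j, φ (pderiv j (P * X i)) * E (X j) =
        φ (X i) * (φ (pderiv j P) * E (X j)) + φ P * (if j = i then E (X j) else 0) := by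
      intro j
      rw [Derivation.leibniz, smul_eq_mul, smul_eq_mul, map_add, map_mul, map_mul, pderiv_X]
      by_cases hij : j = i
      · subst hij
        simp
        ring
      · rw [if_neg hij, Pi.single_eq_of_ne (Ne.symm hij), map_zero]
        ring
    simp only [h1, Finset.sum_add_distrib]
    rw [← Finset.mul_sum, ← Finset.mul_sum, Finset.sum_ite_eq' Finset.univ i, if_pos (Finset.mem_univ _)]
    ring

theorem cd_homog (δ : K →+ Q) (P : MvPolynomial ι K) (D : ℕ) (hP : P.IsHomogeneous D)
    [Fintype {m : ι →₀ ℕ // m.degree = D}] :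
    cd φ δ P = ∑ m : {m : ι →₀ ℕ // m.degree = D}, δ (coeff m.1 P) * φ (monomial m.1 1) := by
  classical
  have h1 : P = ∑ m : {m : ι →₀ ℕ // m.degree = D}, monomial m.1 (coeff m.1 P) := by
    ext c
    rw [coeff_sum]
    simp only [coeff_monomial]
    by_cases hc : c.degree = D
    · rw [Finset.sum_eq_single ⟨c, hc⟩]
      · simp
      · intro b _ hb
        rw [if_neg]
        intro h; exact hb (Subtype.ext h)
      · intro h; exact absurd (Finset.mem_univ _) h
    · rw [Finset.sum_eq_zero]
      · by_contra hne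
        have := homZ_iff.2 hP c hne
        exact hc (by exact_mod_cast this)
      · intro b _
        rw [if_neg]
        rintro rfl
        exact hc b.2
  conv_lhs => rw [h1]
  rw [map_sum]
  exact Finset.sum_congr rfl fun m _ => cd_monomial φ δ _ _

/-- The action of a derivation of `Q` on polynomials. -/
theorem der_poly (D : Derivation ℤ Q Q) (P : MvPolynomial ι K) :
    D (φ P) = cd φ ((D : Q →+ Q).comp ((φ.comp C).toAddMonoidHom)) P + ∑ i, φ (pderiv i P) * D (φ (X i)) := by
  exact leibniz_formula φ ((D : Q →+ Q).comp φ.toAddMonoidHom) (fun P P' => by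
    change D (φ (P * P')) = φ P * D (φ P') + φ P' * D (φ P)
    rw [map_mul, Derivation.leibniz, smul_eq_mul, smul_eq_mul]) P

/-! ### Derivations of the constants -/

section Const

variable {Ci : Type} [Fintype Ci] [DecidableEq Ci] (F : Frame K Ci)

theorem const_zero (j : K →+* Q) (E : K →+ Q) (hE : ∀ a b, E (a * b) = j a * E b + j b * E a)
    (h0 : ∀ e, E (F.z e) = 0) (c : K) : E c = 0 := by
  let _ : Module K Q := Module.compHom Q j
  have hsm : ∀ (a : K) (q : Q), a • q = j a * q := fun a q => rfl
  rw [← Module.forall_dual_apply_eq_zero_iff K]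
  intro f
  let D : Derivation ℤ K K := Derivation.mk' (AddMonoidHom.toIntLinearMap (f.toAddMonoidHom.comp E)) (fun a b => by
    change f (E (a * b)) = a • f (E b) + b • f (E a)
    rw [hE, map_add, ← hsm, ← hsm, map_smul, map_smul])
  have hD : D = 0 := F.sep D fun e => by
    change f (E (F.z e)) = 0
    rw [h0, map_zero]
  have : D c = 0 := by rw [hD]; rfl
  exact this

theorem const_formula (j : K →+* Q) (E : K →+ Q) (hE : ∀ a b, E (a * b) = j a * E b + j b * E a) (c : K) :
    E c = ∑ e, E (F.z e) * j (F.D e c) := by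
  let E' : K →+ Q := E - ∑ e, (AddMonoidHom.mulLeft (E (F.z e))).comp (j.toAddMonoidHom.comp (F.D e : K →+ K))
  have hE'a : ∀ x, E' x = E x - ∑ e, E (F.z e) * j (F.D e x) := by
    intro x
    change (E - ∑ e, (AddMonoidHom.mulLeft (E (F.z e))).comp (j.toAddMonoidHom.comp (F.D e : K →+ K))) x = _
    rw [AddMonoidHom.sub_apply, AddMonoidHom.finsetSum_apply]
    rfl
  have h0 := const_zero F j E' (fun a b => by
    rw [hE'a, hE'a, hE'a, hE, mul_sub, mul_sub, Finset.mul_sum, Finset.mul_sum]
    have : ∑ e, E (F.z e) * j (F.D e (a * b)) =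
        ∑ e, j a * (E (F.z e) * j (F.D e b)) + ∑ e, j b * (E (F.z e) * j (F.D e a)) := by
      rw [← Finset.sum_add_distrib]
      refine Finset.sum_congr rfl fun e _ => ?_
      rw [Derivation.leibniz, smul_eq_mul, smul_eq_mul, map_add, map_mul, map_mul]
      ring
    rw [this]
    ring) (fun e => by
    rw [hE'a, Finset.sum_eq_single e]
    · rw [F.dual, if_pos rfl, map_one, mul_one, sub_self]
    · intro b _ hb
      rw [F.dual, if_neg hb, map_zero, mul_zero]
    · intro h; exact absurd (Finset.mem_univ _) h) c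
  rw [hE'a, sub_eq_zero] at h0
  exact h0

theorem der_const (D : Derivation ℤ Q Q) (c : K) :
    D (φ (C c)) = ∑ e, D (φ (C (F.z e))) * φ (C (F.D e c)) :=
  const_formula F (φ.comp C) ((D : Q →+ Q).comp (φ.comp C).toAddMonoidHom) (fun a b => by
    change D (φ (C (a * b))) = φ (C a) * D (φ (C b)) + φ (C b) * D (φ (C a))
    rw [map_mul, map_mul, Derivation.leibniz, smul_eq_mul, smul_eq_mul]) c

end Const

end Groth.Agent.Lefpen.H625.ConeDer
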