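import Groth.Agent.Lefpen.H19.Socle

/-!
# Graded pieces of localized quotients of a polynomial ring, inside a field

`φ : K[x] → Q` a ring homomorphism to a field.
* `RS φ I m`: elements `q` of `Q` with `(∏_{i ∈ I} x_i)^n q` the image of a form of degree `m + n |I|`.
* `Phi`: the extension of `φ` to Laurent polynomials; `RS φ I m` is the image of `LS K m I` (`exists_lift`, `Phi_mem`).
* `mem_Jsub`: the kernel of `Phi` on `LS K m I` is `Jsub`.
* `exists_t1`, `exists_r2`, `exists_global`: Čech cohomology.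
-/

set_option autoImplicit false
set_option linter.unusedSectionVars false
universe u

open MvPolynomial

namespace Groth.Agent.Lefpen.H625.ConeR

open Groth.Agent.CohqA.LaurentLoc Groth.Agent.CohqA.LaurentCech
open Groth.Agent.Lefpen.H728.LaurReg Groth.Agent.Lefpen.H19.Socle

section HomZ

variable {K : Type u} [Field K] {ι : Type}

theorem HomZ.mul' {P P' : MvPolynomial ι K} {z z' : ℤ} (h : HomZ P z) (h' : HomZ P' z') : HomZ (P * P') (z + z') := by
  classical
  intro c hc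
  rw [coeff_mul] at hc
  obtain ⟨x, hx, hne⟩ := Finset.exists_ne_zero_of_sum_ne_zero hc
  rw [Finset.mem_antidiagonal] at hx
  rw [← hx, map_add, Nat.cast_add, h _ (left_ne_zero_of_mul hne), h' _ (right_ne_zero_of_mul hne)]

theorem HomZ.add' {P P' : MvPolynomial ι K} {z : ℤ} (h : HomZ P z) (h' : HomZ P' z) : HomZ (P + P') z := by
  intro c hc
  rw [coeff_add] at hc
  by_cases h0 : coeff c P = 0
  · rw [h0, zero_add] at hc
    exact h' c hc
  · exact h c h0

theorem HomZ.neg' {P : MvPolynomial ι K} {z : ℤ} (h : HomZ P z) : HomZ (-P) z := by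
  intro c hc
  rw [coeff_neg, neg_ne_zero] at hc
  exact h c hc

theorem homZ_zero (z : ℤ) : HomZ (0 : MvPolynomial ι K) z := fun c hc => absurd (coeff_zero c) hc

theorem homZ_of {P : MvPolynomial ι K} {n : ℕ} (h : P.IsHomogeneous n) {z : ℤ} (hz : z = n) : HomZ P z := by
  subst hz; exact homZ_iff.2 h

theorem homZ_C (c : K) : HomZ (C c : MvPolynomial ι K) 0 := homZ_of (isHomogeneous_C _ _) rfl

theorem homZ_X (i : ι) : HomZ (X i : MvPolynomial ι K) 1 := homZ_of (isHomogeneous_X _ _) rfl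

theorem homZ_one : HomZ (1 : MvPolynomial ι K) 0 := homZ_of (isHomogeneous_one _ _) rfl

theorem HomZ.sum' {κ : Type*} (s : Finset κ) (f : κ → MvPolynomial ι K) {z : ℤ} (h : ∀ i ∈ s, HomZ (f i) z) :
    HomZ (∑ i ∈ s, f i) z := by
  classical
  induction s using Finset.induction_on with
  | empty => exact homZ_zero z
  | insert i s hi ih =>
    rw [Finset.sum_insert hi]
    exact HomZ.add' (h i (Finset.mem_insert_self _ _)) (ih fun j hj => h j (Finset.mem_insert_of_mem hj))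

theorem HomZ.pow' {P : MvPolynomial ι K} {z : ℤ} (h : HomZ P z) (n : ℕ) : HomZ (P ^ n) (n * z) := by
  induction n with
  | zero => simpa using homZ_one
  | succ n ih =>
    rw [pow_succ]
    have := HomZ.mul' ih h
    rwa [show (n : ℤ) * z + z = ((n + 1 : ℕ) : ℤ) * z by push_cast; ring] at this

/-- the product of the variables -/
noncomputable def xp (K : Type u) [Field K] {ι : Type} (I : Finset ι) : MvPolynomial ι K := ∏ i ∈ I, X i

theorem homZ_xp (I : Finset ι) : HomZ (xp K I) I.card := by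
  classical
  induction I using Finset.induction_on with
  | empty => simpa [xp] using homZ_one
  | insert i s hi ih =>
    rw [xp, Finset.prod_insert hi, Finset.card_insert_of_notMem hi]
    have := HomZ.mul' (homZ_X i) ih
    rwa [show (1 : ℤ) + (s.card : ℤ) = ((s.card + 1 : ℕ) : ℤ) by push_cast; ring] at this

theorem homZ_xp_pow (I : Finset ι) (n : ℕ) : HomZ (xp K I ^ n) (n * I.card) := HomZ.pow' (homZ_xp I) n

theorem homZ_zero_iff {P : MvPolynomial ι K} (h : HomZ P 0) : ∃ c, P = C c := by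
  classical
  refine ⟨coeff 0 P, ?_⟩
  ext c
  rw [coeff_C]
  split_ifs with h0
  · rw [h0]
  · by_contra hne
    have h1 : (c.degree : ℤ) = 0 := h c hne
    exact h0 ((Finsupp.degree_eq_zero_iff c).1 (by exact_mod_cast h1)).symm

end HomZ

variable {K : Type u} [Field K] {ι : Type} [DecidableEq ι] {Q : Type u} [Field Q] (φ : MvPolynomial ι K →+* Q)

/-- Homogeneous elements of degree `m` of the localization at the variables in `I`. -/
def RS (I : Finset ι) (m : ℤ) : AddSubgroup Q where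
  carrier := {q | ∃ (n : ℕ) (P : MvPolynomial ι K), HomZ P (m + n * I.card) ∧ φ (xp K I) ^ n * q = φ P}
  zero_mem' := ⟨0, 0, homZ_zero _, by simp⟩
  add_mem' := by
    rintro x y ⟨n, P, hP, h⟩ ⟨n', P', hP', h'⟩
    refine ⟨n + n', P * xp K I ^ n' + P' * xp K I ^ n, HomZ.add' ?_ ?_, ?_⟩
    · have := HomZ.mul' hP (homZ_xp_pow (K := K) I n')
      rwa [show m + n * (I.card : ℤ) + n' * (I.card : ℤ) = m + ((n + n' : ℕ) : ℤ) * I.card by push_cast; ring] at this
    · have := HomZ.mul' hP' (homZ_xp_pow (K := K) I n)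
      rwa [show m + n' * (I.card : ℤ) + n * (I.card : ℤ) = m + ((n + n' : ℕ) : ℤ) * I.card by push_cast; ring] at this
    · rw [map_add, map_mul, map_mul, map_pow, map_pow, ← h, ← h']
      ring
  neg_mem' := by
    rintro x ⟨n, P, hP, h⟩
    exact ⟨n, -P, HomZ.neg' hP, by rw [map_neg, ← h]; ring⟩

variable {φ}

theorem mem_RS {I : Finset ι} {m : ℤ} {q : Q} :
    q ∈ RS φ I m ↔ ∃ (n : ℕ) (P : MvPolynomial ι K), HomZ P (m + n * I.card) ∧ φ (xp K I) ^ n * q = φ P := Iff.rfl

theorem map_mem {I : Finset ι} {m : ℤ} {P : MvPolynomial ι K} (hP : HomZ P m) : φ P ∈ RS φ I m :=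
  ⟨0, P, by simpa using hP, by simp⟩

theorem mem_RS_empty {m : ℤ} {q : Q} : q ∈ RS φ ∅ m ↔ ∃ P : MvPolynomial ι K, HomZ P m ∧ q = φ P := by
  constructor
  · rintro ⟨n, P, hP, h⟩
    refine ⟨P, by simpa using hP, ?_⟩
    rw [← h]; simp [xp]
  · rintro ⟨P, hP, rfl⟩
    exact map_mem hP

theorem mem_RS_iff {I : Finset ι} {m : ℤ} {q : Q} :
    q ∈ RS φ I m ↔ ∃ n : ℕ, φ (xp K I) ^ n * q ∈ RS φ ∅ (m + n * I.card) := by
  constructor
  · rintro ⟨n, P, hP, h⟩
    exact ⟨n, mem_RS_empty.2 ⟨P, hP, h⟩⟩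
  · rintro ⟨n, h⟩
    obtain ⟨P, hP, h'⟩ := mem_RS_empty.1 h
    exact ⟨n, P, hP, h'⟩

theorem RS_mul {I : Finset ι} {m m' : ℤ} {a b : Q} (ha : a ∈ RS φ I m) (hb : b ∈ RS φ I m') :
    a * b ∈ RS φ I (m + m') := by
  obtain ⟨n, P, hP, h⟩ := ha
  obtain ⟨n', P', hP', h'⟩ := hb
  refine ⟨n + n', P * P', ?_, ?_⟩
  · have := HomZ.mul' hP hP'
    rwa [show m + n * (I.card : ℤ) + (m' + n' * (I.card : ℤ)) = m + m' + ((n + n' : ℕ) : ℤ) * I.card by
      push_cast; ring] at this
  · rw [map_mul, ← h, ← h']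
    ring

theorem RS_mul' {I : Finset ι} {m m' z : ℤ} {a b : Q} (ha : a ∈ RS φ I m) (hb : b ∈ RS φ I m') (hz : z = m + m') :
    a * b ∈ RS φ I z := hz ▸ RS_mul ha hb

theorem RS_one (I : Finset ι) : (1 : Q) ∈ RS φ I 0 := by
  have := map_mem (φ := φ) (I := I) (homZ_one (K := K) (ι := ι))
  rwa [map_one] at this

theorem RS_mono {I J : Finset ι} (m : ℤ) (h : I ⊆ J) : RS φ I m ≤ RS φ J m := by
  rintro q ⟨n, P, hP, hq⟩
  refine ⟨n, xp K (J \ I) ^ n * P, ?_, ?_⟩
  · have := HomZ.mul' (homZ_xp_pow (K := K) (J \ I) n) hP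
    have h2 : (J \ I).card + I.card = J.card := Finset.card_sdiff_add_card_eq_card h
    have h3 : ((J \ I).card : ℤ) + I.card = J.card := by exact_mod_cast h2
    rwa [show (n : ℤ) * ((J \ I).card : ℤ) + (m + n * (I.card : ℤ)) = m + n * (J.card : ℤ) by
      rw [← h3]; ring] at this
  · have h1 : xp K J = xp K (J \ I) * xp K I := (Finset.prod_sdiff h).symm
    rw [h1, map_mul, map_mul, ← hq, map_pow]
    ring

/-- Dividing by the product of the variables. -/
theorem RS_of_pow_mul {I : Finset ι} {m z : ℤ} {n : ℕ} {q : Q} (hz : z = m + n * I.card)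
    (h : φ (xp K I) ^ n * q ∈ RS φ I z) : q ∈ RS φ I m := by
  subst hz
  obtain ⟨n', P, hP, h'⟩ := h
  refine ⟨n' + n, P, ?_, ?_⟩
  · rwa [show m + n * (I.card : ℤ) + n' * (I.card : ℤ) = m + ((n' + n : ℕ) : ℤ) * I.card by push_cast; ring] at hP
  · rw [← h', pow_add]; ring

section Laurent

variable [Fintype ι] (hx : ∀ i, φ (X i) ≠ 0)

/-- Laurent monomials in `Q`. -/
noncomputable def mon {ι : Type} [Fintype ι] (x : ι → Q) (hx : ∀ i, x i ≠ 0) : Multiplicative (ι → ℤ) →* Q where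
  toFun m := ∏ i, x i ^ (m.toAdd i)
  map_one' := by simp
  map_mul' := by
    intro a b
    rw [← Finset.prod_mul_distrib]
    exact Finset.prod_congr rfl fun i _ => by rw [toAdd_mul, Pi.add_apply, zpow_add₀ (hx i)]

/-- The extension of `φ` to Laurent polynomials. -/
noncomputable def Phi : LR ι K →+* Q :=
  AddMonoidAlgebra.liftNCRingHom (φ.comp C) (mon (fun i => φ (X i)) hx) (fun _ _ => mul_comm _ _)

theorem Phi_single (m : ι → ℤ) (r : K) : Phi hx (AddMonoidAlgebra.single m r) = φ (C r) * ∏ i, φ (X i) ^ (m i) :=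
  AddMonoidAlgebra.liftNCRingHom_single _ _ _ _ _

theorem Phi_toLaurent (P : MvPolynomial ι K) : Phi hx (toLaurent P) = φ P := by
  have h : (Phi hx).comp toLaurent = φ := by
    apply MvPolynomial.ringHom_ext
    · intro r
      rw [RingHom.comp_apply, C_apply, toLaurent_monomial, Phi_single]
      simp
    · intro i
      rw [RingHom.comp_apply, X, toLaurent_monomial, Phi_single]
      rw [map_one, map_one, one_mul, Finset.prod_eq_single i]
      · simp [X]
      · intro j _ hj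
        simp [hj.symm]
      · intro h; exact absurd (Finset.mem_univ _) h
  exact congr($h P)

theorem Phi_indE (I : Finset ι) (n : ℕ) :
    Phi hx (AddMonoidAlgebra.single (indE (I : Set ι) n) 1) = φ (xp K I) ^ n := by
  rw [Phi_single, map_one, map_one, one_mul, xp, map_prod, ← Finset.prod_pow]
  rw [← Finset.prod_subset (Finset.subset_univ I)]
  · exact Finset.prod_congr rfl fun i hi => by simp [indE, hi]
  · intro i _ hi
    simp [indE, hi]

theorem sum_indE' (I : Finset ι) (n : ℕ) : ∑ i, indE (I : Set ι) n i = n * (I.card : ℤ) := by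
  rw [sum_indE]
  congr 2
  congr 1
  ext i; simp

include hx in
theorem xp_ne (I : Finset ι) : φ (xp K I) ≠ 0 := by
  rw [xp, map_prod]
  exact Finset.prod_ne_zero_iff.2 fun i _ => hx i

theorem Phi_mem (I : Finset ι) (m : ℤ) (y : LR ι K) (hy : y ∈ LS K m (I : Set ι)) : Phi hx y ∈ RS φ I m := by
  obtain ⟨e, he⟩ := exists_clear (I : Set ι) m y hy
  obtain ⟨P, hP, hPy⟩ := he e le_rfl
  refine ⟨e, P, by rwa [sum_indE'] at hP, ?_⟩
  have h1 := congrArg (Phi hx) hPy
  rw [map_mul, Phi_toLaurent, Phi_indE] at h1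
  rw [h1, mul_comm]

theorem exists_lift (I : Finset ι) (m : ℤ) (q : Q) (hq : q ∈ RS φ I m) :
    ∃ y ∈ LS K m (I : Set ι), Phi hx y = q := by
  obtain ⟨n, P, hP, h⟩ := hq
  refine ⟨toLaurent P * AddMonoidAlgebra.single (-indE (I : Set ι) n) 1, ?_, ?_⟩
  · have := mem_Lsub_of_homZ (I : Set ι) n hP
    rw [sum_indE'] at this
    rwa [show m + n * (I.card : ℤ) - n * (I.card : ℤ) = m by ring] at this
  · have h1 : Phi hx (AddMonoidAlgebra.single (indE (I : Set ι) n) 1) *
        Phi hx (AddMonoidAlgebra.single (-indE (I : Set ι) n) 1) = 1 := by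
      rw [← map_mul, single_mul_single_neg, map_one]
    rw [Phi_indE] at h1
    rw [map_mul, Phi_toLaurent, ← h, mul_right_comm, h1, one_mul]

end Laurent

section Cech

variable [Fintype ι] (hx : ∀ i, φ (X i) ≠ 0) {d : ℕ} (G : Fin d → MvPolynomial ι K) (a : Fin d → ℕ)
  (hG : ∀ j, (G j).IsHomogeneous (a j)) (hker : ∀ P, φ P = 0 ↔ P ∈ Ideal.span (Set.range G))

include hG hker in
theorem mem_Jsub (I : Finset ι) (m : ℤ) (y : LR ι K) (hy : y ∈ LS K m (I : Set ι)) (h0 : Phi hx y = 0) :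
    y ∈ Jsub G a d m (I : Set ι) := by
  obtain ⟨e, he⟩ := exists_clear (I : Set ι) m y hy
  obtain ⟨P, hP, hPy⟩ := he e le_rfl
  have h1 : φ P = 0 := by
    rw [← Phi_toLaurent hx, hPy, map_mul, h0, zero_mul]
  rw [hker] at h1
  obtain ⟨c, hc⟩ := (Ideal.mem_span_range_iff_exists_fun).1 h1
  set z := m + ∑ i, indE (I : Set ι) e i with hz
  refine ⟨fun j => toLaurent (compZ (z - a j) (c j)) * AddMonoidAlgebra.single (-indE (I : Set ι) e) 1,
    fun j => ?_, ?_⟩
  · have h4 := mem_Lsub_of_homZ (I : Set ι) e (homZ_compZ (z - a j) (c j))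
    rwa [show z - a j - ∑ i, indE (I : Set ι) e i = m - a j by rw [hz]; ring] at h4
  · have h2 : P = ∑ j, G j * compZ (z - a j) (c j) := by
      rw [← compZ_eq_self hP, ← hc, map_sum]
      exact Finset.sum_congr rfl fun j _ => by rw [mul_comm, compZ_mul (hG j) z]
    have h3 : y = toLaurent P * AddMonoidAlgebra.single (-indE (I : Set ι) e) 1 := by
      rw [hPy, mul_assoc, single_mul_single_neg, mul_one]
    rw [h3, h2, map_sum, Finset.sum_mul, Finset.filter_true_of_mem fun j _ => j.2]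
    exact Finset.sum_congr rfl fun j _ => by rw [map_mul, mul_assoc]

include hker in
theorem Phi_Jsub (I : Set ι) (m : ℤ) (y : LR ι K) (hy : y ∈ Jsub G a d m I) : Phi hx y = 0 := by
  obtain ⟨h, _, rfl⟩ := hy
  rw [map_sum]
  refine Finset.sum_eq_zero fun j _ => ?_
  rw [map_mul, Phi_toLaurent, (hker _).2 (Ideal.subset_span ⟨j, rfl⟩), zero_mul]

theorem Phi_dd {p : ℕ} (s : (Fin p → ι) → LR ι K) (σ : Fin (p + 1) → ι) :
    Phi hx (dd s σ) = dd (fun τ => Phi hx (s τ)) σ := map_dd (Phi hx).toAddMonoidHom s σ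

include hx in
/-- General form of exactness: lifting cochains. -/
theorem exists_cob (ha : ∀ j, 1 ≤ a j) (hht : (d : ℕ∞) ≤ (Ideal.span (Set.range G)).height)
    (hG : ∀ j, (G j).IsHomogeneous (a j)) (hker : ∀ P, φ P = 0 ↔ P ∈ Ideal.span (Set.range G))
    {p : ℕ} {m : ℤ} (s : (Fin (p + 1) → ι) → Q) (hs : ∀ σ, s σ ∈ RS φ (Finset.univ.image σ) m)
    (hcoc : ∀ σ, dd s σ = 0) (hp : p + 1 + d < Fintype.card ι) :
    ∃ t : (Fin p → ι) → Q, (∀ σ, t σ ∈ RS φ (Finset.univ.image σ) m) ∧ ∀ σ, s σ = dd t σ := by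
  have himg : ∀ {q : ℕ} (σ : Fin q → ι), ((Finset.univ.image σ : Finset ι) : Set ι) = Set.range σ := by
    intro q σ; simp
  choose s' hs' hs's using fun σ => exists_lift hx (Finset.univ.image σ) m (s σ) (hs σ)
  have hs'' : ∀ σ, s' σ ∈ LS K m (Set.range σ) := fun σ => by rw [← himg]; exact hs' σ
  obtain ⟨t, ht, hst⟩ := exists_cobounding ha hG hht d le_rfl s' hs'' (fun σ => by
    rw [← himg]
    refine mem_Jsub hx G a hG hker _ m _ ?_ ?_
    · rw [himg]; exact dd_mem_LS hs'' σ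
    · rw [Phi_dd]
      simp only [hs's]
      exact hcoc σ) hp
  refine ⟨fun σ => Phi hx (t σ), fun σ => Phi_mem hx _ m _ (by rw [himg]; exact ht σ), fun σ => ?_⟩
  have h1 := Phi_Jsub hx G a hker _ m _ (hst σ)
  rw [map_sub, sub_eq_zero, hs's, Phi_dd] at h1
  exact h1

include hx in
/-- The iterated socle lemma. -/
theorem exists_soc (ha : ∀ j, 1 ≤ a j) (hht : (d : ℕ∞) ≤ (Ideal.span (Set.range G)).height)
    (hG : ∀ j, (G j).IsHomogeneous (a j)) (hker : ∀ P, φ P = 0 ↔ P ∈ Ideal.span (Set.range G))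
    {p : ℕ} {e z : ℤ} (t : ℕ) (hz : z = e + t) (s : (Fin (p + 1) → ι) → Q)
    (hs : ∀ σ, s σ ∈ RS φ (Finset.univ.image σ) e)
    (hcoc : ∀ σ, dd s σ = 0) (hp : p + 1 + d = Fintype.card ι)
    (he : z ≤ ∑ j, (a j : ℤ) - Fintype.card ι)
    (hsoc : ∀ u : ι →₀ ℕ, u.degree = t → ∃ y : (Fin p → ι) → Q, (∀ σ, y σ ∈ RS φ (Finset.univ.image σ) z) ∧
      ∀ σ, φ (monomial u 1) * s σ = dd y σ) :
    ∃ t : (Fin p → ι) → Q, (∀ σ, t σ ∈ RS φ (Finset.univ.image σ) e) ∧ ∀ σ, s σ = dd t σ := by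
  subst hz
  have himg : ∀ {q : ℕ} (σ : Fin q → ι), ((Finset.univ.image σ : Finset ι) : Set ι) = Set.range σ := by
    intro q σ; simp
  choose s' hs' hs's using fun σ => exists_lift hx (Finset.univ.image σ) e (s σ) (hs σ)
  have hs'' : ∀ σ, s' σ ∈ LS K e (Set.range σ) := fun σ => by rw [← himg]; exact hs' σ
  obtain ⟨t, ht, hst⟩ := socle_pow ha hG hht d le_rfl hp t s' hs'' (fun σ => by
      rw [← himg]
      refine mem_Jsub hx G a hG hker _ e _ ?_ ?_
      · rw [himg]; exact dd_mem_LS hs'' σ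
      · rw [Phi_dd]
        simp only [hs's]
        exact hcoc σ) (by rw [asum_self]; exact he) (fun u hu => by
      obtain ⟨y, hy, hys⟩ := hsoc u hu
      choose y' hy' hy'y using fun σ => exists_lift hx (Finset.univ.image σ) (e + t) (y σ) (hy σ)
      refine ⟨y', fun σ => by rw [← himg]; exact hy' σ, fun σ => ?_⟩
      rw [← himg]
      refine mem_Jsub hx G a hG hker _ (e + t) _ ?_ ?_
      · rw [himg]
        refine Submodule.sub_mem _ (mul_mem_LS (a := t) ?_ (hs'' σ) rfl)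
          (dd_mem_LS (fun σ => by rw [← himg]; exact hy' σ) σ)
        exact isHomogeneous_monomial _ hu
      · rw [map_sub, map_mul, Phi_toLaurent, hs's, hys, Phi_dd, sub_eq_zero]
        simp only [hy'y])
  refine ⟨fun σ => Phi hx (t σ), fun σ => Phi_mem hx _ e _ (by rw [himg]; exact ht σ), fun σ => ?_⟩
  have h1 := Phi_Jsub hx G a hker _ e _ (hst σ)
  rw [map_sub, sub_eq_zero, hs's, Phi_dd] at h1
  exact h1

end Cech

end Groth.Agent.Lefpen.H625.ConeR
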